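import Cfsg.Agent.H891.DG.Defs
import Cfsg.Agent.H490.Der3

/-!
# TEAM GEN: few derivations from a torus and an element `u n` (helper288, for S4180)

`T = ⟨H, u n⟩`, `H` a `p'`-group normalised by `n`.  There are fewer than `|V| ^ 2` derivations if
* `p = 2` and `u` is an involution (`cohAt_two`), or
* `u` is centralised by a nontrivial element of `H` (`cohAt_torus`).
-/

set_option autoImplicit false
set_option linter.unusedSectionVars false

namespace Cfsg.Agent.H288.DG

open Cfsg.Agent.H440.TwoGen Cfsg.Agent.H891.Gen Cfsg.Agent.H891.DG Cfsg.Agent.H490.Der Subgroup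

universe u

section

variable {T V : Type*} [Group T] [AddCommGroup V] [DistribMulAction T V]

/-- the fixed vectors of a subgroup -/
def fixV (H : Subgroup T) (V : Type*) [AddCommGroup V] [DistribMulAction T V] : AddSubgroup V where
  carrier := {v | ∀ h ∈ H, h • v = v}
  add_mem' := fun {a b} ha hb h hh => by rw [smul_add, ha h hh, hb h hh]
  zero_mem' := fun h _ => smul_zero h
  neg_mem' := fun {a} ha h hh => by rw [smul_neg, ha h hh]

theorem mem_fixV {H : Subgroup T} {v : V} : v ∈ fixV H V ↔ ∀ h ∈ H, h • v = v := Iff.rfl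

/-- **The counting lemma.** -/
theorem small_of_torus [Finite T] [Finite V] {p : ℕ} (hp : p.Prime) (hV : ∀ v : V, p • v = 0) {H : Subgroup T}
    (hH : ¬ p ∣ Nat.card H) {n u : T} (hn : ∀ h ∈ H, n * h * n⁻¹ ∈ H) (hgen : H ⊔ closure {u * n} = ⊤)
    {W : Set V} (hW : W ≠ Set.univ) (hu : ∀ z : T → V, IsDer z → (∀ h ∈ H, z h = 0) → z u ∈ W) : Small T V := by
  classical
  set C := fixV H V with hC
  -- conjugation by `n` permutes `H`
  have hn' : ∀ h ∈ H, ∃ h' ∈ H, n * h' * n⁻¹ = h := by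
    have h1 : H.map (MulAut.conj n).toMonoidHom = H := by
      refine eq_of_le_of_card_ge ?_ (le_of_eq (card_map_of_injective (MulAut.conj n).injective).symm)
      rintro _ ⟨h, hh, rfl⟩
      exact hn h hh
    intro h hh
    rw [← h1] at hh
    obtain ⟨h', hh', e⟩ := hh
    exact ⟨h', hh', e⟩
  -- a vector for every derivation
  have key : ∀ z : {z : T → V // ∀ g h : T, z (g * h) = z g + g • z h}, ∃ v : V, ∀ h ∈ H, z.1 h = v - h • v := by
    intro z
    obtain ⟨v, hv⟩ := exists_inner (H := H) hp hV hH (z := fun h => z.1 h) (fun g h => z.2 g h)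
    exact ⟨v, fun h hh => hv ⟨h, hh⟩⟩
  choose σ hσ using key
  -- the canonical representative
  set τ : {z : T → V // ∀ g h : T, z (g * h) = z g + g • z h} → V := fun z =>
    Quotient.out (QuotientAddGroup.mk (s := C) (σ z)) with hτdef
  have hτC : ∀ z, σ z - τ z ∈ C := by
    intro z
    have h1 : (QuotientAddGroup.mk (s := C) (τ z)) = QuotientAddGroup.mk (s := C) (σ z) := Quotient.out_eq' _
    have h2 := QuotientAddGroup.eq.1 h1
    rwa [neg_add_eq_sub] at h2
  have hτ : ∀ z, ∀ h ∈ H, z.1 h = τ z - h • τ z := by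
    intro z h hh
    have h1 : h • σ z - h • τ z = σ z - τ z := by rw [← smul_sub]; exact hτC z h hh
    rw [hσ z h hh, sub_eq_sub_iff_sub_eq_sub]
    exact h1.symm
  let z0 : {z : T → V // ∀ g h : T, z (g * h) = z g + g • z h} → T → V := fun z g => z.1 g - (τ z - g • τ z)
  have hz0 : ∀ z, IsDer (z0 z) := fun z => IsDer.sub z.2 (isDer_inner _)
  have hz0H : ∀ z, ∀ h ∈ H, z0 z h = 0 := fun z h hh => by
    show z.1 h - (τ z - h • τ z) = 0
    rw [hτ z h hh, sub_self]
  have hz0n : ∀ z, z0 z n ∈ C := by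
    intro z h hh
    obtain ⟨h', hh', e⟩ := hn' h hh
    have h1 : z0 z (n * h') = z0 z n := by rw [hz0 z, hz0H z h' hh', smul_zero, add_zero]
    have h2 : z0 z (h * n) = h • z0 z n := by rw [hz0 z, hz0H z h hh, zero_add]
    rw [← h2, ← h1]
    congr 1
    rw [← e]; group
  let F : {z : T → V // ∀ g h : T, z (g * h) = z g + g • z h} → (V ⧸ C) × (W × C) := fun z =>
    (QuotientAddGroup.mk (s := C) (σ z), (⟨z0 z u, hu _ (hz0 z) (hz0H z)⟩, ⟨z0 z n, hz0n z⟩))
  have hF : Function.Injective F := by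
    intro z z' h
    have h1 : (QuotientAddGroup.mk (s := C) (σ z)) = QuotientAddGroup.mk (s := C) (σ z') := congrArg Prod.fst h
    have h2 : z0 z u = z0 z' u := congrArg (fun x => ((x.2.1 : W) : V)) h
    have h3 : z0 z n = z0 z' n := congrArg (fun x => ((x.2.2 : C) : V)) h
    have h4 : τ z = τ z' := by
      show Quotient.out _ = Quotient.out _
      rw [h1]
    have h5 : z0 z = z0 z' := by
      refine IsDer.ext (S := (H : Set T) ∪ {u * n}) ?_ (hz0 z) (hz0 z') ?_
      · rw [Subgroup.closure_union, Subgroup.closure_eq]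
        exact hgen
      · rintro s (hs | hs)
        · rw [hz0H z s hs, hz0H z' s hs]
        · rw [Set.mem_singleton_iff] at hs
          rw [hs, hz0 z, hz0 z', h2, h3]
    apply Subtype.ext
    funext g
    have h6 := congrFun h5 g
    have h7 : z.1 g - (τ z - g • τ z) = z'.1 g - (τ z' - g • τ z') := h6
    rw [h4] at h7
    exact sub_left_injective h7
  have hcard := Nat.card_le_card_of_injective F hF
  rw [Nat.card_prod, Nat.card_prod] at hcard
  have h1 : Nat.card W < Nat.card V := by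
    have h2 : (W : Set V).ncard < (Set.univ : Set V).ncard := Set.ncard_lt_ncard (Set.ssubset_univ_iff.2 hW)
    rwa [Set.ncard_univ] at h2
  have h2 : Nat.card (V ⧸ C) * Nat.card C = Nat.card V := (AddSubgroup.card_eq_card_quotient_mul_card_addSubgroup C).symm
  have h3 : 0 < Nat.card V := Nat.card_pos
  show Nat.card {z : T → V // ∀ g h : T, z (g * h) = z g + g • z h} < Nat.card V ^ 2
  calc Nat.card {z : T → V // ∀ g h : T, z (g * h) = z g + g • z h}
      ≤ Nat.card (V ⧸ C) * (Nat.card W * Nat.card C) := hcard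
    _ = Nat.card W * (Nat.card (V ⧸ C) * Nat.card C) := by ring
    _ = Nat.card W * Nat.card V := by rw [h2]
    _ < Nat.card V * Nat.card V := Nat.mul_lt_mul_of_pos_right h1 h3
    _ = Nat.card V ^ 2 := by ring

end

variable {T : Type u} [Group T] [Finite T] [IsSimpleGroup T] {p : ℕ}

/-- nontrivial modules of simple groups are faithful -/
theorem exists_moved {V : Type*} [AddCommGroup V] [DistribMulAction T V] (h : ∃ (g : T) (v : V), g • v ≠ v) {t : T}
    (ht : t ≠ 1) : ∃ v : V, t • v ≠ v := by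
  by_contra hcon
  push Not at hcon
  let N : Subgroup T :=
    { carrier := {g | ∀ v : V, g • v = v}
      one_mem' := fun v => one_smul T v
      mul_mem' := fun {a b} ha hb v => by rw [mul_smul, hb v, ha v]
      inv_mem' := fun {a} ha v => by rw [inv_smul_eq_iff, ha v] }
  have hN : N.Normal := by
    refine ⟨fun x hx g v => ?_⟩
    rw [mul_smul, mul_smul, hx (g⁻¹ • v), smul_inv_smul]
  obtain ⟨g, v, hg⟩ := h
  rcases hN.eq_bot_or_eq_top with h1 | h1
  · exact ht ((mem_bot).1 (h1 ▸ (show t ∈ N from hcon)))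
  · have h2 : g ∈ N := h1 ▸ mem_top g
    exact hg (h2 v)

/-- `p = 2`, `u` an involution -/
theorem cohAt_two {H : Subgroup T} (hH : Odd (Nat.card H)) {n u : T} (hn : ∀ h ∈ H, n * h * n⁻¹ ∈ H)
    (hu : u ^ 2 = 1) (hu1 : u ≠ 1) (hgen : H ⊔ closure {u * n} = ⊤) : CohAt 2 T := by
  intro V _ _ _ hV _ hne
  obtain ⟨v, hv⟩ := exists_moved hne hu1
  refine small_of_torus Nat.prime_two hV (by rw [Nat.two_dvd_ne_zero, Nat.odd_iff.1 hH]) hn hgen
    (W := {v | u • v = v}) (fun h => hv ((Set.ext_iff.1 h v).2 (Set.mem_univ v))) (fun z hz _ => ?_)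
  have h1 : z (u * u) = 0 := by rw [← sq, hu, hz.one]
  rw [hz] at h1
  have h2 := hV (z u)
  rw [two_nsmul] at h2
  exact add_left_cancel (h1.trans h2.symm)

/-- `u` centralised by `t ∈ H`, `t ≠ 1` -/
theorem cohAt_torus (hp : p.Prime) {H : Subgroup T} (hH : ¬ p ∣ Nat.card H) {n u t : T}
    (hn : ∀ h ∈ H, n * h * n⁻¹ ∈ H) (ht : t ∈ H) (ht1 : t ≠ 1) (htu : t * u = u * t)
    (hgen : H ⊔ closure {u * n} = ⊤) : CohAt p T := by
  intro V _ _ _ hV _ hne
  obtain ⟨v, hv⟩ := exists_moved hne ht1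
  refine small_of_torus hp hV hH hn hgen
    (W := {v | t • v = v}) (fun h => hv ((Set.ext_iff.1 h v).2 (Set.mem_univ v))) (fun z hz hzH => ?_)
  have h1 : z (t * u) = t • z u := by rw [hz, hzH t ht, zero_add]
  have h2 : z (u * t) = z u := by rw [hz, hzH t ht, smul_zero, add_zero]
  show t • z u = z u
  rw [← h1, htu, h2]

/-- transport -/
theorem cohAt_congr {S : Type u} [Group S] (e : S ≃* T) (h : CohAt p S) : CohAt p T := by
  intro V _ _ _ hV hirr hne
  let _ : DistribMulAction S V := DistribMulAction.compHom V e.toMonoidHom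
  have h1 : ∀ (s : S) (v : V), s • v = e s • v := fun _ _ => rfl
  have h2 := h V hV (fun U hU => hirr U (fun g u hu => by
      have := hU (e.symm g) u hu
      rwa [h1, e.apply_symm_apply] at this)) (by
      obtain ⟨g, v, hg⟩ := hne
      exact ⟨e.symm g, v, by rwa [h1, e.apply_symm_apply]⟩)
  exact small_congr e (AddEquiv.refl V) (fun s v => rfl) h2

/-- the data for the two lemmas -/
def Tor (p : ℕ) (G : Type*) [Group G] : Prop :=
  ∃ (H : Subgroup G) (n u : G), ¬ p ∣ Nat.card H ∧ (∀ h ∈ H, n * h * n⁻¹ ∈ H) ∧ H ⊔ closure {u * n} = ⊤ ∧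
    ((p = 2 ∧ u ^ 2 = 1 ∧ u ≠ 1) ∨ ∃ t ∈ H, t ≠ 1 ∧ t * u = u * t)

theorem Tor.congr {G K : Type*} [Group G] [Group K] (e : G ≃* K) (h : Tor p G) : Tor p K := by
  obtain ⟨H, n, u, h1, h2, h3, h4⟩ := h
  refine ⟨H.map e.toMonoidHom, e n, e u, ?_, ?_, ?_, ?_⟩
  · rwa [card_map_of_injective e.injective]
  · rintro _ ⟨h, hh, rfl⟩
    refine ⟨n * h * n⁻¹, h2 h hh, ?_⟩
    show e (n * h * n⁻¹) = e n * e h * (e n)⁻¹
    rw [map_mul, map_mul, map_inv]
  · have h5 : (H ⊔ closure {u * n}).map e.toMonoidHom = ⊤ := by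
      rw [h3, ← MonoidHom.range_eq_map]
      exact MonoidHom.range_eq_top.2 e.surjective
    rw [Subgroup.map_sup, MonoidHom.map_closure, Set.image_singleton] at h5
    rw [← map_mul]
    exact h5
  · rcases h4 with ⟨hp, h5, h6⟩ | ⟨t, ht, h5, h6⟩
    · refine Or.inl ⟨hp, by rw [← map_pow, h5, map_one], fun h => h6 (e.injective (by rw [h, map_one]))⟩
    · refine Or.inr ⟨e t, ⟨t, ht, rfl⟩, fun h => h5 (e.injective (by rw [h, map_one])), ?_⟩
      rw [← map_mul, ← map_mul, h6]

theorem cohAt_of_tor (hp : p.Prime) (h : Tor p T) : CohAt p T := by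
  obtain ⟨H, n, u, h1, h2, h3, h4⟩ := h
  rcases h4 with ⟨rfl, h5, h6⟩ | ⟨t, ht, h5, h6⟩
  · exact cohAt_two (by rwa [Nat.two_dvd_ne_zero, ← Nat.odd_iff] at h1) h2 h5 h6 h3
  · exact cohAt_torus hp h1 h2 ht h5 h6 h3

/-- `T` is generated by an involution and another element -/
def InvGen (G : Type*) [Group G] : Prop := ∃ c b : G, c ^ 2 = 1 ∧ c ≠ 1 ∧ closure {c, b} = ⊤

theorem InvGen.congr {G K : Type*} [Group G] [Group K] (e : G ≃* K) (h : InvGen G) : InvGen K := by
  obtain ⟨c, b, h1, h2, h3⟩ := h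
  refine ⟨e c, e b, by rw [← map_pow, h1, map_one], fun h => h2 (e.injective (by rw [h, map_one])), ?_⟩
  have h5 : (closure {c, b}).map e.toMonoidHom = ⊤ := by
    rw [h3, ← MonoidHom.range_eq_map]
    exact MonoidHom.range_eq_top.2 e.surjective
  rw [MonoidHom.map_closure, Set.image_pair] at h5
  exact h5

theorem coh_of_invGen (hna : ¬ IsMulCommutative T) (h : InvGen T) : Coh T := by
  obtain ⟨c, b, hc, hc1, hcb⟩ := h
  intro p hp V _ _ _ hV _ hne
  have hnz : ∃ v : V, v + c • v ≠ 0 := by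
    by_contra hcon
    push Not at hcon
    -- `c` acts as `-1`
    have hneg : ∀ v : V, c • v = -v := fun v => (neg_eq_of_add_eq_zero_right (hcon v)).symm
    apply hna
    have hcc : ∀ g : T, g * c = c * g := by
      intro g
      by_contra h0
      have h1 : g * c * g⁻¹ * c⁻¹ ≠ 1 := by
        intro h2
        apply h0
        rw [mul_inv_eq_one] at h2
        exact mul_inv_eq_iff_eq_mul.1 h2
      obtain ⟨v, hv⟩ := exists_moved hne h1
      apply hv
      have h2 : c⁻¹ • v = -v := by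
        rw [inv_smul_eq_iff, smul_neg, hneg, neg_neg]
      rw [mul_smul, mul_smul, mul_smul, h2, hneg, smul_neg, smul_inv_smul, neg_neg]
    have hcen : c ∈ center T := mem_center_iff.2 hcc
    have htop : center T = ⊤ := by
      rcases (inferInstance : (center T).Normal).eq_bot_or_eq_top with h1 | h1
      · rw [h1, mem_bot] at hcen
        exact absurd hcen hc1
      · exact h1
    refine ⟨⟨fun a b => ?_⟩⟩
    exact mem_center_iff.1 (htop ▸ mem_top b : b ∈ center T) a
  obtain ⟨v, hv⟩ := hnz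
  refine small_of_norm hcb (n := 2) hc (v := v) ?_
  rw [Finset.sum_range_succ, Finset.sum_range_one, pow_zero, pow_one, one_smul]
  exact hv

end Cfsg.Agent.H288.DG
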