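import Cfsg.Agent.H288.DG.Torus
import Mathlib.Algebra.CharP.CharAndCard
import Mathlib.FieldTheory.Finite.Basic

/-!
# TEAM GEN: the torus data of a subgroup of a linear group (helper288, for S4180)
-/

set_option autoImplicit false
set_option linter.unusedSectionVars false

namespace Cfsg.Agent.H288.DG.Tw

open Cfsg.Agent.H288.DG

/-- a group of exponent dividing `|F| - 1` has order prime to the characteristic -/
theorem not_dvd_of_exp {F : Type*} [Field F] [Fintype F] (p : ℕ) [CharP F p] {X : Type*} [Group X] [Finite X]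
    (H : Subgroup X) (h : ∀ g ∈ H, g ^ (Fintype.card F - 1) = 1) : ¬ p ∣ Nat.card ↥H := by
  have hp : p.Prime := CharP.char_is_prime F p
  have : Fact p.Prime := ⟨hp⟩
  intro hd
  obtain ⟨g, hg⟩ := exists_prime_orderOf_dvd_card' (G := ↥H) p hd
  have h1 : g ^ (Fintype.card F - 1) = 1 := Subtype.ext (h g.1 g.2)
  have h3 := orderOf_dvd_of_pow_eq_one h1
  rw [hg] at h3
  have h4 : p ∣ Fintype.card F := (CharP.cast_eq_zero_iff F p _).1 (Nat.cast_card_eq_zero F)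
  have h5 : 0 < Fintype.card F := Fintype.card_pos
  have h6 : p ∣ 1 := by
    have := Nat.dvd_sub h4 h3
    have e : Fintype.card F - (Fintype.card F - 1) = 1 := by omega
    rwa [e] at this
  exact hp.one_lt.ne' (Nat.dvd_one.1 h6)

/-- the subgroup `H ⊔ ⟨u n⟩` of the ambient group -/
theorem top_of_le {X : Type*} [Group X] {S : Subgroup X} {H : Subgroup ↥S} {g : ↥S}
    (h : S ≤ (H ⊔ Subgroup.closure {g}).map S.subtype) : H ⊔ Subgroup.closure {g} = ⊤ := by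
  rw [eq_top_iff]
  intro x _
  obtain ⟨y, hy, e⟩ := h x.2
  have : y = x := Subtype.ext e
  rwa [this] at hy

/-- the torus data of a subgroup `S`: `A` is the torus of the ambient group -/
theorem tor_sub {p : ℕ} {X : Type*} [Group X] {S A : Subgroup X} {n u : X} (hA : ¬ p ∣ Nat.card ↥A)
    (hn : ∀ a ∈ A, n * a * n⁻¹ ∈ A) (hnS : n ∈ S) (huS : u ∈ S)
    (hgen : ∀ M : Subgroup X, A ⊓ S ≤ M → u * n ∈ M → S ≤ M)
    (h : (p = 2 ∧ u ^ 2 = 1 ∧ u ≠ 1) ∨ ∃ t ∈ A, t ∈ S ∧ t ≠ 1 ∧ t * u = u * t) : Tor p ↥S := by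
  refine ⟨(A ⊓ S).subgroupOf S, ⟨n, hnS⟩, ⟨u, huS⟩, ?_, ?_, ?_, ?_⟩
  · rw [Nat.card_congr (Subgroup.subgroupOfEquivOfLe (inf_le_right : A ⊓ S ≤ S)).toEquiv]
    intro hd
    exact hA (hd.trans (Subgroup.card_dvd_of_le inf_le_left))
  · intro h hh
    rw [Subgroup.mem_subgroupOf] at hh ⊢
    exact ⟨hn _ hh.1, S.mul_mem (S.mul_mem hnS h.2) (S.inv_mem hnS)⟩
  · apply top_of_le
    apply hgen
    · intro x hx
      exact ⟨⟨x, hx.2⟩, Subgroup.mem_sup_left (Subgroup.mem_subgroupOf.2 hx), rfl⟩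
    · exact ⟨⟨u, huS⟩ * ⟨n, hnS⟩, Subgroup.mem_sup_right (Subgroup.subset_closure rfl), rfl⟩
  · rcases h with ⟨h1, h2, h3⟩ | ⟨t, ht, htS, h2, h3⟩
    · exact Or.inl ⟨h1, Subtype.ext h2, fun h => h3 (congrArg Subtype.val h)⟩
    · exact Or.inr ⟨⟨t, htS⟩, Subgroup.mem_subgroupOf.2 ⟨ht, htS⟩, fun h => h2 (congrArg Subtype.val h),
        Subtype.ext h3⟩

end Cfsg.Agent.H288.DG.Tw
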