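import Cfsg.Agent.H288.DG.Tw
import Cfsg.Agent.S2407

/-!
# TEAM GEN: the torus data of `³D₄(q)` (helper288, for S4180; the generation is helper136's proof of S2407)
-/

set_option autoImplicit false
set_option linter.unusedSectionVars false

namespace Cfsg.Agent.H288.DG.TwD4

open Cfsg.Lie Cfsg.Agent.S2407
open Cfsg.Agent.ChevalleyStructure.D4Comm Cfsg.Agent.ChevalleyStructure.D4NCheck
open Cfsg.Agent.ChevalleyStructure.D4NConj Cfsg.Agent.ChevalleyStructure.D4RGD
open Cfsg.Agent.ChevalleyStructure.D4Perm Cfsg.Agent.ChevalleyStructure.D4TwN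
open Cfsg.Agent.ChevalleyStructure.D4Cols (xU)
open Cfsg.Agent.ChevalleyStructure.D4Fixed (X Y fix mem_fix twisted_le_fix twisted_induction X_mem Y_mem exists_frob)
open Cfsg.Agent.ChevalleyStructure.D4HConj
open Cfsg.Agent.ChevalleyStructure.D4Perfect
open Cfsg.Agent.ChevalleyStructure.D4U (RS na nb na_RS nb_RS RS_outer_fix phi3)
open Cfsg.Agent.ChevalleyStructure.D4Pos
open Cfsg.Agent.ChevalleyStructure.TwistedU
open Cfsg.Agent.H136
open scoped commutatorElement

variable {K : Type*} [Field K] {φ : K →+* K} {q : ℕ}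

theorem gen [Fintype K] (hq : IsPrimePow q) (hK : Fintype.card K = q ^ 3) (hφ : ∀ x, φ x = x ^ q)
    (M : Subgroup (GL chevD4.Idx K)) (hM : chevD4.diagonalSubgroup K ⊓ twistedD4 K q ≤ M)
    (hb : X φ 1 * (vv K)⁻¹ ∈ M) : twistedD4 K q ≤ M := by
  have hfix := twisted_le_fix hK hφ
  have hq2 : 2 ≤ q := hq.two_le
  have hq3 : 2 ^ 3 ≤ q ^ 3 := Nat.pow_le_pow_left hq2 3
  obtain ⟨c, hc⟩ := IsCyclic.exists_generator (α := Kˣ)
  have hc0 : (c : K) ≠ 0 := c.ne_zero
  have hord : orderOf c = q ^ 3 - 1 := by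
    rw [orderOf_eq_card_of_forall_mem_zpowers hc, Nat.card_units, Nat.card_eq_fintype_card, hK]
  have hpow : ∀ n, 0 < n → n < q ^ 3 - 1 → (c : K) ^ n ≠ 1 := by
    intro n h0 hn h1
    have h2 : c ^ n = 1 := Units.ext (by rw [Units.val_pow_eq_pow_val, h1, Units.val_one])
    have := Nat.le_of_dvd h0 (orderOf_dvd_of_pow_eq_one h2)
    omega
  have hc2 : (c : K) ^ 2 ≠ 1 := hpow 2 (by norm_num) (by omega)
  have hlam : φ c * φ (φ c) ≠ c := by
    intro h
    have h1 : φ c * φ (φ c) = (c : K) ^ (q + q ^ 2) := by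
      rw [hφ (φ c), hφ c, ← pow_mul, ← pow_add, ← sq]
    have h2 : q ^ 2 + q ^ 2 ≤ q ^ 3 := by nlinarith [Nat.pos_of_ne_zero (by omega : q ≠ 0)]
    have h3 : q + q < q ^ 2 + q := by nlinarith
    refine hpow (q + q ^ 2 - 1) (by omega) (by omega) ?_
    apply mul_right_cancel₀ hc0
    rw [one_mul, ← pow_succ, Nat.sub_add_cancel (by omega), ← h1, h]
  have hvT : vv K ∈ twistedD4 K q := mul_mem (nA_mem_twisted hφ) (nB_mem_twisted hφ)
  have hvN : vv K ∈ chevD4.monomialSubgroup K := mul_mem (nA_mem K) (nB_mem K)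
  have hhD : hA φ (c : K) ∈ chevD4.diagonalSubgroup K := hA_mem_diagonal hc0
  have hhT : hA φ (c : K) ∈ twistedD4 K q := hA_mem hφ _
  have ha : hA φ (c : K) ∈ M := hM ⟨hhD, hhT⟩
  have h1D : (vv K)⁻¹ * hA φ (c : K) * (vv K)⁻¹⁻¹ ∈ chevD4.diagonalSubgroup K :=
    conj_mem_diagonal (inv_mem hvN) hhD
  have h1T : (vv K)⁻¹ * hA φ (c : K) * (vv K)⁻¹⁻¹ ∈ twistedD4 K q :=
    mul_mem (mul_mem (inv_mem hvT) hhT) (inv_mem (inv_mem hvT))
  obtain ⟨hXM, hwM⟩ := TwoGen.torus_trick M (XS φ) (h := hA φ (c : K)) (w := (vv K)⁻¹) (u := X φ 1) ha hb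
    ⟨1, rfl⟩ (fun x hx => conj_XS hK hφ h1D h1T hx)
    (fun x hx => by
      have := conj_XS hK hφ (inv_mem h1D) (inv_mem h1T) hx
      rwa [inv_inv] at this)
    (irr hc)
    ⟨X φ 1, ⟨1, rfl⟩, fun h => by
      have h2 := hA_conj_X (φ := φ) hc0 1
      rw [h, mul_inv_cancel_right] at h2
      have h3 := X_inj h2
      rw [mul_one] at h3
      exact hc2 h3.symm⟩
    (fun x hx => conj_XS hK hφ hhD hhT hx)
    (diag_comm hhD h1D)
    (fun h => by
      have h2 : hA φ (c : K) * (vv K * X φ 1 * (vv K)⁻¹) * (hA φ (c : K))⁻¹ = vv K * X φ 1 * (vv K)⁻¹ := by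
        have h3 : vv K * ((vv K)⁻¹ * hA φ (c : K) * (vv K)⁻¹⁻¹ * X φ 1) * (vv K)⁻¹ =
            vv K * (X φ 1 * ((vv K)⁻¹ * hA φ (c : K) * (vv K)⁻¹⁻¹)) * (vv K)⁻¹ := by rw [h]
        have h4 : vv K * ((vv K)⁻¹ * hA φ (c : K) * (vv K)⁻¹⁻¹ * X φ 1) * (vv K)⁻¹ =
            hA φ (c : K) * (vv K * X φ 1 * (vv K)⁻¹) := by group
        have h5 : vv K * (X φ 1 * ((vv K)⁻¹ * hA φ (c : K) * (vv K)⁻¹⁻¹)) * (vv K)⁻¹ =
            (vv K * X φ 1 * (vv K)⁻¹) * hA φ (c : K) := by group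
        rw [h4, h5] at h3
        rw [h3, mul_inv_cancel_right]
      rw [vv_X, conj3, hA_conj (by norm_num) hc0, hA_conj (by norm_num) hc0, hA_conj (by norm_num) hc0] at h2
      have h6 := (three_inj (by decide) (by decide) (by decide) (by decide +kernel) h2).1
      obtain ⟨e1, e2, e3⟩ := cart_vals
      rw [e1, e2, e3, zpow_one, zpow_one, zpow_neg_one, mul_one] at h6
      have hs : ((vsg 18 : ℤ) : K) ≠ 0 := by
        intro h0
        have := congrArg (Int.cast (R := K)) (vsg_sq 18 (by simp))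
        rw [Int.cast_mul, h0, mul_zero, Int.cast_one] at this
        exact zero_ne_one this
      have h7 : ((c : K)⁻¹ * (φ c * φ (φ c))) * ((vsg 18 : ℤ) : K) = 1 * ((vsg 18 : ℤ) : K) := by
        rw [one_mul]
        calc ((c : K)⁻¹ * (φ c * φ (φ c))) * ((vsg 18 : ℤ) : K)
            = (c : K)⁻¹ * (φ c * (φ (φ c) * ((vsg 18 : ℤ) : K))) := by ring
          _ = _ := h6
      have h8 := mul_right_cancel₀ hs h7
      apply hlam
      rw [inv_mul_eq_one₀ hc0] at h8
      exact h8.symm)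
  have hvM : vv K ∈ M := by
    have := M.inv_mem hwM
    rwa [inv_inv] at this
  have hX : ∀ t, X φ t ∈ M := fun t => hXM ⟨t, rfl⟩
  have hunconj : ∀ g : GL chevD4.Idx K, vv K * g * (vv K)⁻¹ ∈ M → g ∈ M := by
    intro g hg
    have := M.mul_mem (M.mul_mem (M.inv_mem hvM) hg) hvM
    have e : (vv K)⁻¹ * (vv K * g * (vv K)⁻¹) * vv K = g := by group
    rwa [e] at this
  have hY : ∀ t, Y φ t ∈ M := fun t => hunconj _ (hunconj _ (hunconj _ (hXM (Y_conj hK hφ t))))
  have hnA : nA K ∈ M := by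
    have h1 := Cfsg.Agent.ChevalleyStructure.D4H1.n_outer_eq φ 1
    rw [map_one, map_one, wU_nWord_eq (by norm_num), wU_nWord_eq (by norm_num), wU_nWord_eq (by norm_num)] at h1
    have h2 : nA K = nR 18 1 * nR 13 1 * nR 12 (1 : K) := rfl
    rw [h2, ← h1]
    apply Subgroup.list_prod_mem
    intro x hx
    rw [List.mem_map] at hx
    obtain ⟨⟨_ | _, t⟩, _, rfl⟩ := hx
    · exact hY t
    · exact hX t
  have hnB : nB K ∈ M := by
    have := M.mul_mem (M.inv_mem hnA) hvM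
    rwa [vv, inv_mul_cancel_left] at this
  -- long root elements
  have h22 : ∃ ε : K, (ε = 1 ∨ ε = -1) ∧ ∀ t : K, xG 22 (ε * (t + φ t + φ (φ t))) ∈ M := by
    obtain ⟨a1, a2, a3, k1, k2, k3, r1, r2, r3, r4⟩ :
        ∃ a1 a2 a3 : ℤ, Cfsg.Agent.ChevalleyStructure.D4CommTab.cm 18 17 = some (22, a1) ∧
          Cfsg.Agent.ChevalleyStructure.D4CommTab.cm 13 20 = some (22, a2) ∧
          Cfsg.Agent.ChevalleyStructure.D4CommTab.cm 12 21 = some (22, a3) ∧
          a2 * vsg 13 = a1 * vsg 18 ∧ a3 * vsg 12 = a1 * vsg 18 ∧ a1 * vsg 18 * (a1 * vsg 18) = 1 ∧ True := by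
      refine ⟨((Cfsg.Agent.ChevalleyStructure.D4CommTab.cm 18 17).getD (0, 0)).2,
        ((Cfsg.Agent.ChevalleyStructure.D4CommTab.cm 13 20).getD (0, 0)).2,
        ((Cfsg.Agent.ChevalleyStructure.D4CommTab.cm 12 21).getD (0, 0)).2, ?_, ?_, ?_, ?_, ?_, ?_, trivial⟩ <;>
      decide +kernel
    refine ⟨((a1 * vsg 18 : ℤ) : K), ?_, fun t => ?_⟩
    · have h3 : ((a1 * vsg 18 : ℤ) : K) ^ 2 = 1 := by
        rw [sq, ← Int.cast_mul, r3, Int.cast_one]
      exact Cfsg.Agent.ChevalleyStructure.D4H1.sq_one_cases h3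
    · have h3 : X φ 1 * (vv K * X φ t * (vv K)⁻¹) * (X φ 1)⁻¹ * (vv K * X φ t * (vv K)⁻¹)⁻¹ ∈ M := by
        have h4 := M.mul_mem (M.mul_mem hvM (hX t)) (M.inv_mem hvM)
        exact M.mul_mem (M.mul_mem (M.mul_mem (hX 1) h4) (M.inv_mem (hX 1))) (M.inv_mem h4)
      rw [vv_X, X_def', map_one, map_one] at h3
      rw [comm3 (c_comm2 (by norm_num) (by norm_num) (by norm_num) (by norm_num) (by norm_num) k1 _ _)
        (c_comm2 (by norm_num) (by norm_num) (by norm_num) (by norm_num) (by norm_num) k2 _ _)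
        (c_comm2 (by norm_num) (by norm_num) (by norm_num) (by norm_num) (by norm_num) k3 _ _)
        (c_comm (by norm_num) (by norm_num) (by norm_num) (by norm_num) (by norm_num) (by decide +kernel) _ _)
        (c_comm (by norm_num) (by norm_num) (by norm_num) (by norm_num) (by norm_num) (by decide +kernel) _ _)
        (c_comm (by norm_num) (by norm_num) (by norm_num) (by norm_num) (by norm_num) (by decide +kernel) _ _)
        (c_comm (by norm_num) (by norm_num) (by norm_num) (by norm_num) (by norm_num) (by decide +kernel) _ _)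
        (c_comm (by norm_num) (by norm_num) (by norm_num) (by norm_num) (by norm_num) (by decide +kernel) _ _)
        (c_comm (by norm_num) (by norm_num) (by norm_num) (by norm_num) (by norm_num) (by decide +kernel) _ _)
        (by
          have hcen : ∀ r ∈ [18, 13, 12, 17, 20, 21], ∀ t u : K, xG 22 t * xG r u = (xG r u * xG 22 t :
              GL chevD4.Idx K) := by
            have hd : ∀ r ∈ [18, 13, 12, 17, 20, 21], 12 ≤ r ∧ r < 24 ∧ r ≠ 22 ∧
              Cfsg.Agent.ChevalleyStructure.D4CommTab.cm 22 r = none := by decide +kernel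
            intro r hr t u
            obtain ⟨d1, d2, d3, d4⟩ := hd r hr
            exact c_comm (by norm_num) (by norm_num) d1 d2 d3 d4 t u
          intro g hg
          simp only [Set.mem_insert_iff, Set.mem_singleton_iff] at hg
          rcases hg with rfl | rfl | rfl | rfl | rfl | rfl
          · exact ⟨hcen 18 (by simp) _ _, hcen 18 (by simp) _ _, hcen 18 (by simp) _ _⟩
          · exact ⟨hcen 13 (by simp) _ _, hcen 13 (by simp) _ _, hcen 13 (by simp) _ _⟩
          · exact ⟨hcen 12 (by simp) _ _, hcen 12 (by simp) _ _, hcen 12 (by simp) _ _⟩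
          · exact ⟨hcen 17 (by simp) _ _, hcen 17 (by simp) _ _, hcen 17 (by simp) _ _⟩
          · exact ⟨hcen 20 (by simp) _ _, hcen 20 (by simp) _ _, hcen 20 (by simp) _ _⟩
          · exact ⟨hcen 21 (by simp) _ _, hcen 21 (by simp) _ _, hcen 21 (by simp) _ _⟩)] at h3
      rw [← xG_add, ← xG_add] at h3
      have e : (a1 : K) * (1 * ((vsg 18 : K) * t)) + (a2 : K) * (1 * ((vsg 13 : K) * φ t)) +
          (a3 : K) * (1 * ((vsg 12 : K) * φ (φ t))) = ((a1 * vsg 18 : ℤ) : K) * (t + φ t + φ (φ t)) := by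
        have r1' := congrArg (Int.cast (R := K)) r1
        have r2' := congrArg (Int.cast (R := K)) r2
        push_cast at r1' r2' ⊢
        linear_combination φ t * r1' + φ (φ t) * r2'
      rwa [e] at h3
  obtain ⟨ε, hε, h22⟩ := h22
  have h22' : ∀ v, φ v = v → xG 22 v ∈ M := by
    intro v hv
    obtain ⟨t, ht⟩ := FieldLem.exists_trace hq2 hK φ hφ (phi_sign hε hv)
    have := h22 t
    rwa [ht, sign_mul_self hε] at this
  have h14 : ∀ v, φ v = v → xG 14 v ∈ M := by
    intro v hv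
    obtain ⟨ε', hε', h⟩ := nA_conj_14 K
    have h5 := h22' _ (phi_sign hε' hv)
    rw [← h] at h5
    have := M.mul_mem (M.mul_mem (M.inv_mem hnA) h5) hnA
    have e : (nA K)⁻¹ * (nA K * xG 14 v * (nA K)⁻¹) * nA K = xG 14 v := by group
    rwa [e] at this
  refine twisted_induction hφ ?_ ?_ hX hY
  · intro t ht
    rw [xU_eq]
    exact h14 t ht
  · intro t ht
    rw [xU_eq]
    obtain ⟨ε', hε', h⟩ := nB_conj_14 K
    have h5 := M.mul_mem (M.mul_mem hnB (h14 _ (phi_sign hε' ht))) (M.inv_mem hnB)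
    rwa [h, sign_mul_self hε'] at h5

theorem torG_pow (c : Fin 4 → Kˣ) (k : ℕ) : (torG c : GL chevD4.Idx K) ^ k = torG (c ^ k) := by
  induction k with
  | zero => rw [pow_zero, pow_zero, torG_one]
  | succ k ih => rw [pow_succ, pow_succ, ih, torG_mul]

theorem exp_diag [Fintype K] {g : GL chevD4.Idx K} (hg : g ∈ chevD4.diagonalSubgroup K) :
    g ^ (Fintype.card K - 1) = 1 := by
  obtain ⟨c, rfl⟩ := diagonal_le_torus K hg
  rw [torG_pow]
  have h1 : c ^ (Fintype.card K - 1) = 1 := by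
    funext i
    apply Units.ext
    rw [Pi.pow_apply, Units.val_pow_eq_pow_val, Pi.one_apply, Units.val_one]
    exact FiniteField.pow_card_sub_one_eq_one _ (c i).ne_zero
  rw [h1, torG_one]

theorem xG_inj17 {t u : K} (h : (xG 17 t : GL chevD4.Idx K) = xG 17 u) : t = u :=
  (three_inj (a := 17) (b := 20) (c := 21) (t2 := 0) (t3 := 0) (u2 := 0) (u3 := 0) (by decide) (by decide) (by decide)
    (by decide +kernel) (by rw [h])).1

/-- the torus data of `³D₄(q)` -/
theorem tor [Fintype K] (hq : IsPrimePow q) (hK : Fintype.card K = q ^ 3) (p : ℕ) [CharP K p] :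
    Tor p ↥(twistedD4 K q) := by
  classical
  obtain ⟨φ, hφ⟩ := exists_frob hq hK
  have hvT : vv K ∈ twistedD4 K q := mul_mem (nA_mem_twisted hφ) (nB_mem_twisted hφ)
  have hvN : vv K ∈ chevD4.monomialSubgroup K := mul_mem (nA_mem K) (nB_mem K)
  refine Tw.tor_sub (A := chevD4.diagonalSubgroup K) (n := (vv K)⁻¹) (u := X φ 1)
    (Tw.not_dvd_of_exp (F := K) p _ fun g hg => exp_diag hg) (fun a ha => conj_mem_diagonal (inv_mem hvN) ha)
    (inv_mem hvT) (X_mem hφ 1) (gen hq hK hφ) ?_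
  by_cases hp2 : p = 2
  · subst hp2
    refine Or.inl ⟨rfl, ?_, fun h => ?_⟩
    · rw [pow_two, X_mul, CharTwo.add_self_eq_zero, X_zero]
    · rw [← X_zero (φ := φ)] at h
      exact one_ne_zero (X_inj h)
  · refine Or.inr ⟨hA φ (-1 : K), hA_mem_diagonal (neg_ne_zero.2 one_ne_zero), hA_mem hφ _, fun h => ?_, ?_⟩
    · have h4 := hA_conj (φ := φ) (s := 17) (by norm_num) (c := (-1 : K)) (neg_ne_zero.2 one_ne_zero) 1
      obtain ⟨e1, e2, e3⟩ := cart_vals
      rw [h, one_mul, inv_one, mul_one, e1, e2, e3, zpow_one, zpow_one, zpow_neg_one, mul_one, map_neg, map_one,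
        map_neg, map_one, inv_neg, inv_one, neg_one_mul, neg_one_mul, neg_neg] at h4
      have h5 := xG_inj17 h4
      have : CharP K 2 := by
        apply CharTwo.of_one_ne_zero_of_two_eq_zero one_ne_zero
        rw [← one_add_one_eq_two]
        nth_rewrite 1 [h5]
        ring
      exact hp2 (CharP.eq K ‹_› this)
    · have h1 := hA_conj_X (φ := φ) (c := (-1 : K)) (neg_ne_zero.2 one_ne_zero) 1
      rw [neg_one_sq, one_mul] at h1
      exact mul_inv_eq_iff_eq_mul.1 h1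

end Cfsg.Agent.H288.DG.TwD4
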